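import Groth.Prelude.Def_RelProj2
import Groth.Agent.VeryAmpleX.Basic
import Groth.Agent.RelTwistX.Ample
import Groth.Agent.RelTildeX.Chart
import Groth.Agent.SymSh.Spec
import Groth.Agent.InvX.Frame

/-!
# The tautological map `p^* E → O(1)` of a projective bundle is an epimorphism
-/

noncomputable section

universe u

open CategoryTheory CategoryTheory.Limits AlgebraicGeometry TopologicalSpace Opposite DirectSum
open scoped HomogeneousIdeal

set_option backward.isDefEq.respectTransparency false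
set_option backward.isDefEq.respectTransparency.types false
set_option linter.style.haveILetI false

namespace Groth.Agent.ProjBunEpi

open Groth.Agent

variable {Y P : Scheme.{u}} {E : Y.Modules} (hE : Coh.IsQCoh E) {𝒮 : RelProj.QCGrAlg Y} {j : E ⟶ 𝒮.toModule}
  (hj : RelProj.IsGrSymAlg E 𝒮 j)

variable (j) in
/-- The element of `𝒮(U)` attached to a section of `E`. -/
abbrev jSec (U : Y.Opens) (e : Γ(E, U)) : 𝒮.presheaf.obj (op U) := (j.app U) e

include hE hj in
theorem irrelevant_le_span_j (U : Y.Opens) (hU : IsAffineOpen U) :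
    ((𝒮.deg U hU)₊).toIdeal ≤ Ideal.span (Set.range (jSec j U)) := by
  classical
  obtain ⟨s, hs, hsj⟩ := SymSh.exists_sec hE hj.1 hU
  set J := Ideal.span (Set.range (jSec j U)) with hJ
  have h1 : J ≤ ((𝒮.deg U hU)₊).toIdeal := Ideal.span_le.2 (by
    rintro _ ⟨e, rfl⟩
    refine (HomogeneousIdeal.mem_irrelevant_iff _ _).mpr ?_
    rw [GradedRing.proj_apply]; exact decompose_of_mem_ne (𝒮.deg U hU) (hj.2 U hU e) one_ne_zero)
  have key : ∀ x : 𝒮.presheaf.obj (op U), ∃ r : Γ(Y, U), x - 𝒮.str.app (op U) r ∈ J := fun x => by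
    rw [← s.symm_apply_apply x]
    generalize s x = y
    induction y using SymmetricAlgebra.induction with
    | algebraMap r => exact ⟨r, by rw [← hs r, s.symm_apply_apply, sub_self]; exact zero_mem _⟩
    | ι m =>
      refine ⟨0, ?_⟩
      rw [map_zero, sub_zero, ← hsj m, s.symm_apply_apply]
      exact Ideal.subset_span ⟨m, rfl⟩
    | add x y hx hy =>
      obtain ⟨r, hr⟩ := hx
      obtain ⟨r', hr'⟩ := hy
      refine ⟨r + r', ?_⟩
      rw [map_add, map_add]
      convert J.add_mem hr hr' using 1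
      abel
    | mul x y hx hy =>
      obtain ⟨r, hr⟩ := hx
      obtain ⟨r', hr'⟩ := hy
      refine ⟨r * r', ?_⟩
      rw [map_mul, map_mul]
      convert J.add_mem (J.mul_mem_left (s.symm x) hr')
        (J.mul_mem_left (𝒮.str.app (op U) r') hr) using 1
      ring
  intro a ha
  obtain ⟨r, hr⟩ := key a
  have h0 : 𝒮.str.app (op U) r ∈ ((𝒮.deg U hU)₊).toIdeal := by
    have := sub_mem ha (h1 hr)
    rwa [sub_sub_cancel] at this
  have h0' := (HomogeneousIdeal.mem_irrelevant_iff _ _).mp h0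
  rw [GradedRing.proj_apply] at h0'
  replace h0' := (decompose_of_mem_same (𝒮.deg U hU) (𝒮.str_mem U hU r)).symm.trans h0'
  rwa [h0', sub_zero] at hr

variable (p : P ⟶ Y)
  (chart : ∀ (U : Y.Opens) (hU : IsAffineOpen U), ((p ⁻¹ᵁ U : P.Opens) : Scheme.{u}) ≅ Proj (𝒮.deg U hU))
  {O1 : P.Modules}
  {lam : ∀ (U : Y.Opens) (hU : IsAffineOpen U),
    O1 ⟶ (Scheme.Modules.pushforward (RelProj.emb p chart U hU)).obj (GrTwist.twist (𝒮.deg U hU) 1)}
  (hO1 : RelProj.IsRelTwist 𝒮 p chart 1 O1 lam) (φ : E ⟶ (Scheme.Modules.pushforward p).obj O1)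
  (hφ : ∀ (U : Y.Opens) (hU : IsAffineOpen U) (e : Γ(E, U)) (y : ↥(RelProj.emb p chart U hU ⁻¹ᵁ (p ⁻¹ᵁ U))),
    GrTwist.val (V := RelProj.emb p chart U hU ⁻¹ᵁ (p ⁻¹ᵁ U)) ((lam U hU).app (p ⁻¹ᵁ U) ((φ.app U) e)) y =
      algebraMap (𝒮.presheaf.obj (op U)) (GrTwist.Loc (𝒮.deg U hU) y.1) ((j.app U) e : 𝒮.presheaf.obj (op U)))

/-- The open of `P` where the section `j e` does not vanish. -/
abbrev chartOpen (U : Y.Opens) (hU : IsAffineOpen U) (e : Γ(E, U)) : P.Opens :=
  RelProj.emb p chart U hU ''ᵁ Proj.basicOpen (𝒮.deg U hU) (jSec j U e)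

theorem chartOpen_le (U : Y.Opens) (hU : IsAffineOpen U) (e : Γ(E, U)) :
    chartOpen (j := j) p chart U hU e ≤ p ⁻¹ᵁ U :=
  ((RelProj.emb p chart U hU).image_le_opensRange _).trans (RelTildeX.opensRange_emb p chart U hU).le

include hj hO1 hφ in
theorem isFrame_phi (U : Y.Opens) (hU : IsAffineOpen U) (e : Γ(E, U)) :
    InvX.IsFrame (AModX.res O1 (chartOpen_le (j := j) p chart U hU e)
      (show Γ(O1, p ⁻¹ᵁ U) from φ.app U e)) := by
  set em := RelProj.emb p chart U hU with hem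
  set f : 𝒮.presheaf.obj (op U) := jSec j U e with hf
  have hf1 : f ∈ 𝒮.deg U hU 1 := hj.2 U hU e
  intro V hV
  have hVU : V ≤ p ⁻¹ᵁ U := hV.trans (chartOpen_le (j := j) p chart U hU e)
  have hVr : V ≤ em.opensRange := hV.trans (em.image_le_opensRange _)
  have hV0 : em ⁻¹ᵁ V ≤ Proj.basicOpen (𝒮.deg U hU) f :=
    (em.preimage_mono hV).trans (em.preimage_image_eq _).le
  have hfr := RelTwistX.isFrame_sec1 (𝒮.deg U hU) hf1 (em ⁻¹ᵁ V) hV0
  haveI := em.isIso_app V hVr
  have hb : Function.Bijective (em.app V) := ConcreteCategory.bijective_of_isIso _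
  let ψ := (lam U hU).app V
  have hψ : Function.Bijective ψ := hO1.bijective U hU V hVU
  have hval : (show Γ(GrTwist.twist (𝒮.deg U hU) 1, em ⁻¹ᵁ V) from
      ψ (AModX.res O1 hVU (show Γ(O1, p ⁻¹ᵁ U) from φ.app U e))) =
      AModX.res (GrTwist.twist (𝒮.deg U hU) 1) hV0
        (AModX.res (GrTwist.twist (𝒮.deg U hU) 1) le_top (RelTwistX.sec1 (𝒮.deg U hU) hf1)) := by
    refine (AModX.app_res (lam U hU) hVU _).trans (Subtype.ext (funext fun y => Subtype.ext ?_))
    exact (hφ U hU e ⟨y.1, em.preimage_mono hVU y.2⟩).trans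
      (Localization.mk_one_eq_algebraMap f).symm
  rw [AModX.res_res]
  have key : ∀ r : Γ(P, V), ψ (r • AModX.res O1 hVU (show Γ(O1, p ⁻¹ᵁ U) from φ.app U e)) =
      (show Γ(GrTwist.twist (𝒮.deg U hU) 1, em ⁻¹ᵁ V) from em.app V r •
        (AModX.res (GrTwist.twist (𝒮.deg U hU) 1) hV0
          (AModX.res (GrTwist.twist (𝒮.deg U hU) 1) le_top (RelTwistX.sec1 (𝒮.deg U hU) hf1)))) := fun r => by
    rw [← hval]
    exact Scheme.Modules.Hom.app_smul _ _ _
  constructor
  · intro r r' h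
    have h' := congrArg ψ h
    simp only [key] at h'
    exact hb.1 (hfr.1 h')
  · intro x
    obtain ⟨c, hc⟩ := hfr.2 (show Γ(GrTwist.twist (𝒮.deg U hU) 1, em ⁻¹ᵁ V) from ψ x)
    obtain ⟨r, rfl⟩ := hb.2 c
    exact ⟨r, hψ.1 ((key r).trans hc)⟩

include hE hj hO1 hφ in
theorem epi_adjunct :
    Epi (((Scheme.Modules.pullbackPushforwardAdjunction p).homEquiv E O1).symm φ) := by
  let adj := Scheme.Modules.pullbackPushforwardAdjunction p
  refine ⟨fun {Z} a b he => ?_⟩
  have heq : φ ≫ (Scheme.Modules.pushforward p).map a = φ ≫ (Scheme.Modules.pushforward p).map b := by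
    have := congrArg (adj.homEquiv _ _) he
    rwa [adj.homEquiv_naturality_right, adj.homEquiv_naturality_right, Equiv.apply_symm_apply] at this
  let ι := Σ U : Y.affineOpens, Γ(E, U.1)
  refine InvX.hom_ext_of_frames (ι := ι) (fun i => chartOpen (j := j) p chart i.1.1 i.1.2 i.2) (fun x => ?_) _
    (fun i => isFrame_phi hj p chart hO1 φ hφ i.1.1 i.1.2 i.2) fun i => ?_
  · obtain ⟨_, ⟨U, hU, rfl⟩, hxU, -⟩ := Y.isBasis_affineOpens.exists_subset_of_mem_open
      (Set.mem_univ (p x)) isOpen_univ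
    have hx : x ∈ (RelProj.emb p chart U hU).opensRange := by
      rw [RelTildeX.opensRange_emb]; exact hxU
    obtain ⟨y, rfl⟩ := hx
    obtain ⟨e, he⟩ : ∃ e : Γ(E, U), jSec j U e ∉ y.asHomogeneousIdeal := by
      by_contra h
      push Not at h
      exact y.not_irrelevant_le ((irrelevant_le_span_j hE hj U hU).trans
        (Ideal.span_le.2 (by rintro _ ⟨e, rfl⟩; exact h e)))
    exact ⟨⟨⟨U, hU⟩, e⟩, y, he, rfl⟩
  · rw [AModX.app_res, AModX.app_res]
    exact congrArg _ congr(($heq).app i.1.1 i.2)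

end Groth.Agent.ProjBunEpi
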